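/- Krull dimension of topological spaces via restriction of chains to subspaces. -/
import Mathlib
import Groth.Prelude.Def_Flat

set_option autoImplicit false

open Set Topology TopologicalSpace Order

namespace Groth.Agent.TopDim.Basic

universe u

variable {X : Type u} [TopologicalSpace X]

theorem dim_le {c : WithBot ℕ∞}
    (h : ∀ s : LTSeries (IrreducibleCloseds X), (s.length : WithBot ℕ∞) ≤ c) :
    topologicalKrullDim X ≤ c := iSup_le h

theorem length_le (s : LTSeries (IrreducibleCloseds X)) :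
    (s.length : WithBot ℕ∞) ≤ topologicalKrullDim X :=
  le_iSup (fun q : LTSeries (IrreducibleCloseds X) => ((q.length : ℕ) : WithBot ℕ∞)) s

theorem restrict (s : LTSeries (IrreducibleCloseds X)) (S : Set X)
    (h : ∀ i, IsIrreducible ((Subtype.val : S → X) ⁻¹' (s i : Set X)) ∧
      (s i : Set X) ⊆ closure ((s i : Set X) ∩ S)) :
    (s.length : WithBot ℕ∞) ≤ topologicalKrullDim S := by
  refine length_le (X := S) ⟨s.length, fun i => ⟨_, (h i).1,
    (s i).isClosed.preimage continuous_subtype_val⟩, fun i => ?_⟩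
  have hlt : s (Fin.castSucc i) < s i.succ := s.step i
  show (_ : IrreducibleCloseds S) < _
  refine lt_of_le_of_ne ?_ fun he => hlt.ne (le_antisymm hlt.le ?_)
  · intro z hz
    exact hlt.le hz
  intro z hz
  refine closure_minimal ?_ (s (Fin.castSucc i)).isClosed ((h i.succ).2 hz)
  rintro w ⟨hw, hwS⟩
  have he' := congrArg (fun T : IrreducibleCloseds S => (T : Set S)) he
  have : (⟨w, hwS⟩ : S) ∈ (Subtype.val : S → X) ⁻¹' (s i.succ : Set X) := hw
  exact (Set.ext_iff.mp he' ⟨w, hwS⟩).mpr this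

theorem restrict_open (s : LTSeries (IrreducibleCloseds X)) {U : Set X} (hU : IsOpen U)
    (h : ((s.head : Set X) ∩ U).Nonempty) : (s.length : WithBot ℕ∞) ≤ topologicalKrullDim U := by
  refine restrict s U fun i => ?_
  have hne : ((s i : Set X) ∩ U).Nonempty :=
    h.mono (inter_subset_inter_left _ (s.monotone (Fin.zero_le i)))
  refine ⟨⟨?_, (s i).isIrreducible.isPreirreducible.preimage hU.isOpenEmbedding_subtypeVal⟩,
    subset_closure_inter_of_isPreirreducible_of_isOpen (s i).isIrreducible.isPreirreducible hU hne⟩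
  obtain ⟨z, hz, hzU⟩ := hne
  exact ⟨⟨z, hzU⟩, hz⟩

theorem restrict_closed (s : LTSeries (IrreducibleCloseds X)) {Y : Set X}
    (h : (s.last : Set X) ⊆ Y) : (s.length : WithBot ℕ∞) ≤ topologicalKrullDim Y := by
  refine restrict s Y fun i => ?_
  have hsub : (s i : Set X) ⊆ Y := fun z hz => h (s.monotone (Fin.le_last i) hz)
  refine ⟨?_, by rw [inter_eq_left.mpr hsub]; exact subset_closure⟩
  refine ⟨?_, ?_⟩
  · obtain ⟨z, hz⟩ := (s i).isIrreducible.nonempty
    exact ⟨⟨z, hsub hz⟩, hz⟩
  · intro u v hu hv hnu hnv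
    obtain ⟨u', hu', rfl⟩ := isOpen_induced_iff.mp hu
    obtain ⟨v', hv', rfl⟩ := isOpen_induced_iff.mp hv
    obtain ⟨a, ha, hau⟩ := hnu
    obtain ⟨b, hb, hbv⟩ := hnv
    obtain ⟨z, hz, hzu, hzv⟩ := (s i).isIrreducible.isPreirreducible u' v' hu' hv'
      ⟨a.1, ha, hau⟩ ⟨b.1, hb, hbv⟩
    exact ⟨⟨z, hsub hz⟩, hz, hzu, hzv⟩

theorem dim_eq_of_closed_cover {ι : Type*} (Y : ι → Set X)
    (h : ∀ Z : IrreducibleCloseds X, ∃ i, (Z : Set X) ⊆ Y i) :
    topologicalKrullDim X = ⨆ i, topologicalKrullDim (Y i) := by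
  refine le_antisymm (dim_le fun s => ?_) (iSup_le fun i => topologicalKrullDim_subspace_le X (Y i))
  obtain ⟨i, hi⟩ := h s.last
  exact (restrict_closed s hi).trans (le_iSup (fun i => topologicalKrullDim (Y i)) i)

theorem exists_subset {ι : Type*} [Finite ι] (Y : ι → Set X) (hY : ∀ i, IsClosed (Y i))
    {Z : Set X} (hZ : IsIrreducible Z) (h : Z ⊆ ⋃ i, Y i) : ∃ i, Z ⊆ Y i := by
  classical
  obtain ⟨z, hz, hZz⟩ := isIrreducible_iff_sUnion_isClosed.mp hZ (Set.finite_range Y).toFinset
    (by simpa using hY) (by simpa using h)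
  obtain ⟨i, rfl⟩ := (Set.finite_range Y).mem_toFinset.mp hz
  exact ⟨i, hZz⟩

theorem dim_eq_of_finite_closed_cover {ι : Type*} [Finite ι] (Y : ι → Set X)
    (hY : ∀ i, IsClosed (Y i)) (hcov : ⋃ i, Y i = univ) :
    topologicalKrullDim X = ⨆ i, topologicalKrullDim (Y i) :=
  dim_eq_of_closed_cover Y fun Z => exists_subset Y hY Z.isIrreducible (by rw [hcov]; exact subset_univ _)

theorem localDim_le_dim (x : X) : FlatMor.localDim X x ≤ topologicalKrullDim X :=
  (iInf_le _ ⟨⊤, trivial⟩).trans (topologicalKrullDim_subspace_le X _)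

theorem localDim_le (x : X) (U : Opens X) (hx : x ∈ U) :
    FlatMor.localDim X x ≤ topologicalKrullDim (U : Set X) :=
  iInf_le (fun V : {V : Opens X // x ∈ V} => topologicalKrullDim (V.1 : Set X)) ⟨U, hx⟩

theorem length_le_localDim (s : LTSeries (IrreducibleCloseds X)) {x : X} (hx : x ∈ (s.head : Set X)) :
    (s.length : WithBot ℕ∞) ≤ FlatMor.localDim X x :=
  le_iInf fun U => restrict_open s U.1.isOpen ⟨x, hx, U.2⟩

theorem exists_localDim (x : X) : ∃ U : Opens X, x ∈ U ∧
    topologicalKrullDim (U : Set X) = FlatMor.localDim X x := by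
  haveI : Nonempty {U : Opens X // x ∈ U} := ⟨⟨⊤, trivial⟩⟩
  obtain ⟨U, hU⟩ := csInf_mem (Set.range_nonempty
    fun U : {V : Opens X // x ∈ V} => topologicalKrullDim (U.1 : Set X))
  exact ⟨U.1, U.2, hU⟩

/-- a noetherian Kolmogorov space of dimension `0` is finite discrete -/
theorem finite_discrete [NoetherianSpace X] [T0Space X] (h : topologicalKrullDim X ≤ 0) :
    Finite X ∧ DiscreteTopology X := by
  have hmax : ∀ Z W : IrreducibleCloseds X, Z ≤ W → Z = W := fun Z W hle =>
    le_antisymm hle (Order.krullDim_nonpos_iff_forall_isMax.mp h Z hle)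
  have hcomp : ∀ Z ∈ irreducibleComponents X, ∃ y, Z = {y} := by
    intro Z hZ
    have hc := isClosed_of_mem_irreducibleComponents Z hZ
    obtain ⟨y, hy, hyc⟩ := hc.exists_closed_singleton hZ.1.nonempty
    refine ⟨y, ?_⟩
    have := hmax ⟨{y}, isIrreducible_singleton, hyc⟩ ⟨Z, hZ.1, hc⟩ (singleton_subset_iff.mpr hy)
    exact (congrArg (fun T : IrreducibleCloseds X => (T : Set X)) this).symm
  have hcl : ∀ x : X, IsClosed ({x} : Set X) := by
    intro x
    obtain ⟨y, hy⟩ := hcomp _ (irreducibleComponent_mem_irreducibleComponents x)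
    have hx : x ∈ ({y} : Set X) := hy ▸ mem_irreducibleComponent
    rw [mem_singleton_iff] at hx
    rw [hx, ← hy]; exact isClosed_irreducibleComponent
  haveI : T1Space X := ⟨hcl⟩
  haveI : Finite X := by
    haveI := (NoetherianSpace.finite_irreducibleComponents (α := X)).to_subtype
    refine Finite.of_injective (fun x => (⟨_, irreducibleComponent_mem_irreducibleComponents x⟩ :
      irreducibleComponents X)) fun a b hab => ?_
    simp only [Subtype.mk.injEq] at hab
    obtain ⟨y, hy⟩ := hcomp _ (irreducibleComponent_mem_irreducibleComponents a)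
    have ha : a ∈ ({y} : Set X) := hy ▸ mem_irreducibleComponent
    have hb : b ∈ ({y} : Set X) := hy ▸ hab ▸ mem_irreducibleComponent
    rw [mem_singleton_iff] at ha hb
    rw [ha, hb]
  exact ⟨inferInstance, inferInstance⟩

theorem dim_nonneg [Nonempty X] : (0 : WithBot ℕ∞) ≤ topologicalKrullDim X := by
  haveI : Nonempty (IrreducibleCloseds X) := ⟨⟨closure {Classical.arbitrary X},
    isIrreducible_singleton.closure, isClosed_closure⟩⟩
  exact Order.krullDim_nonneg

end Groth.Agent.TopDim.Basic
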